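import Cfsg.Agent.H825.SB.HeTabA

/-!
# Families of the classes of the Held group, I (helper825)
-/

set_option autoImplicit false
set_option maxRecDepth 100000

namespace Cfsg.Agent.H825.SB.He

open Cfsg Cfsg.Spor Subgroup
open Cfsg.Spor.He (Gen)
open Cfsg.Agent.SporadicB.HePerm
open Cfsg.Agent.FixBN.HeStab Cfsg.Agent.KFacts.He.Lv Cfsg.Agent.CpAutHe.Cnt
open Cfsg.Agent.H235.Ore.HeCert Cfsg.Agent.H235.Ore.He
open Cfsg.Agent.H713.Two.HeClasses (Nn Nn_conj Nn_wd)
open Cfsg.Agent.H153.Zeros.He17 (W17 o17)
open Cfsg.Agent.H19.Odd.HeCnt (XB XC)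

theorem w1 : chkRow [] 0 = true := by decide +kernel
theorem w21A : chkRow x21A 20 = true := by decide +kernel
theorem w21B : chkRow (pw x21A 2) 20 = true := by decide +kernel
theorem w2A : chkRow x2A 1 = true := by decide +kernel
theorem w2B : chkRow x2B 2 = true := by decide +kernel
theorem w3A : chkRow x3A 3 = true := by decide +kernel
theorem w3B : chkRow XB 4 = true := by decide +kernel
theorem w4A : chkRow x4A 5 = true := by decide +kernel
theorem w4B : chkRow x4B 6 = true := by decide +kernel
theorem w4C : chkRow x4C 7 = true := by decide +kernel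
theorem w6A : chkRow x6A 9 = true := by decide +kernel
theorem w6B : chkRow x6B 4 = true := by decide +kernel

end Cfsg.Agent.H825.SB.He
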