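import Cfsg.Agent.H825.SB.HeTabA

/-!
# Families of the classes of the Held group, II (helper825)
-/

set_option autoImplicit false
set_option maxRecDepth 100000

namespace Cfsg.Agent.H825.SB.He

open Cfsg Cfsg.Spor Subgroup
open Cfsg.Spor.He (Gen)
open Cfsg.Agent.SporadicB.HePerm
open Cfsg.Agent.FixBN.HeStab Cfsg.Agent.KFacts.He.Lv Cfsg.Agent.CpAutHe.Cnt
open Cfsg.Agent.H235.Ore.HeCert Cfsg.Agent.H235.Ore.He
open Cfsg.Agent.H713.Two.HeClasses (Nn Nn_conj Nn_wd)
open Cfsg.Agent.H153.Zeros.He17 (W17 o17)
open Cfsg.Agent.H19.Odd.HeCnt (XB XC)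

theorem w12A : chkRow x12A 4 = true := by decide +kernel
theorem w12B : chkRow x12B 15 = true := by decide +kernel
theorem w5A : chkRow x5A 8 = true := by decide +kernel
theorem w8A : chkRow x8A 13 = true := by decide +kernel
theorem w10A : chkRow x10A 14 = true := by decide +kernel
theorem w15A : chkRow x15A 18 = true := by decide +kernel
theorem w14A : chkRow x14A 16 = true := by decide +kernel
theorem w14C : chkRow x14C 17 = true := by decide +kernel
theorem w28A : chkRow x28A 21 = true := by decide +kernel
theorem w7A : chkRow x7A 10 = true := by decide +kernel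
theorem w7C : chkRow XC 11 = true := by decide +kernel
theorem w7D : chkRow x7D 12 = true := by decide +kernel
theorem w21C : chkRow x21C 4 = true := by decide +kernel

end Cfsg.Agent.H825.SB.He
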