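import Cfsg.Agent.H235.Ore.He
import Cfsg.Agent.H300.Cls.GenChar
import Cfsg.Agent.H329.K4.He
import Cfsg.Agent.FixBN.HeCent

/-!
# Families of classes of the Held group (helper825)

The colours of the pairs `(y, x y)` of the action on 2058 points: `Row x i` says that `x` belongs to the family `i`.
There are 22 families; the permutation character and the spherical characters of degrees 680 and 1275 are given by
tables.
-/

set_option autoImplicit false
set_option maxRecDepth 100000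

namespace Cfsg.Agent.H825.SB.He

open Cfsg Cfsg.Spor Subgroup
open Cfsg.Spor.He (Gen)
open Cfsg.Agent.SporadicB.HePerm
open Cfsg.Agent.FixBN.HeStab Cfsg.Agent.KFacts.He.Lv Cfsg.Agent.CpAutHe.Cnt
open Cfsg.Agent.H235.Ore.HeCert Cfsg.Agent.H235.Ore.He
open Cfsg.Agent.H713.Two.HeClasses (Nn Nn_conj Nn_wd)
open Cfsg.Agent.H153.Zeros.He17 (W17 o17)
open Cfsg.Agent.H19.Odd.HeCnt (XB XC)

/-! ### Symmetric colours -/

/-- colour 0 -/
def c0P (y z : ℕ) : Bool := Nat.beq (colr y z) 0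
/-- colour 1 -/
def c1P (y z : ℕ) : Bool := Nat.beq (colr y z) 1

theorem c0P_inv (g : Cfsg.Spor.He) (i j : Fin 2058) :
    c0P (phi g i : Fin 2058) (phi g j : Fin 2058) = c0P i j := by
  unfold c0P
  rw [colr_inv]

theorem c1P_inv (g : Cfsg.Spor.He) (i j : Fin 2058) :
    c1P (phi g i : Fin 2058) (phi g j : Fin 2058) = c1P i j := by
  unfold c1P
  rw [colr_inv]

def symB (P : ℕ → ℕ → Bool) : Bool := allBelow 2058 fun y => bif P y 0 then P 0 y else !(P 0 y)

theorem sym0 : symB c0P = true := by decide +kernel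
theorem sym1 : symB c1P = true := by decide +kernel
theorem sym2 : symB c2P = true := by decide +kernel

theorem exists_to_zero (i : Fin 2058) : ∃ g : Cfsg.Spor.He, phi g i = 0 := by
  obtain ⟨g, hg⟩ := Cfsg.Agent.S1683.exists_map_zero i
  refine ⟨g⁻¹, ?_⟩
  rw [← hg, map_inv, inv_app]

theorem app_inv' (k : Cfsg.Spor.He) (x : Fin 2058) : phi k ((phi k)⁻¹ x) = x := by
  rw [← Equiv.Perm.mul_apply, mul_inv_cancel, Equiv.Perm.one_apply]

theorem symm_of {P : ℕ → ℕ → Bool} (hP : ∀ (g : Cfsg.Spor.He) (i j : Fin 2058),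
    P (phi g i : Fin 2058) (phi g j : Fin 2058) = P i j) (h : symB P = true) (i j : Fin 2058) : P i j = P j i := by
  obtain ⟨g, hg⟩ := exists_to_zero i
  rw [← hP g i j, ← hP g j i, hg]
  have h1 := of_allBelow h (phi g j) (phi g j).2
  have e : ((0 : Fin 2058) : ℕ) = 0 := rfl
  rw [e]
  cases hb : P (phi g j : Fin 2058) 0 <;> rw [hb] at h1 <;> simpa using h1

theorem Nn_inv {P : ℕ → ℕ → Bool} (hs : ∀ i j : Fin 2058, P i j = P j i) (x : Cfsg.Spor.He) : Nn P x⁻¹ = Nn P x := by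
  unfold Nn
  refine Nat.card_congr (Equiv.subtypeEquiv (phi x⁻¹) fun i => ?_)
  rw [hs, map_inv, app_inv']

/-! ### Families -/

def T0 : List ℕ := [2058, 154, 42, 42, 0, 14, 18, 2, 8, 10, 0, 0, 0, 2, 4, 2, 0, 0, 2, 1, 0, 0]
def T1 : List ℕ := [0, 224, 1344, 756, 1386, 1232, 960, 1488, 1150, 1196, 1176, 1372, 1470, 1264, 1254, 1376, 1288,
  1358, 1306, 1360, 1456, 1400]
def T2 : List ℕ := [0, 1680, 672, 1260, 420, 812, 888, 248, 600, 708, 294, 686, 196, 584, 580, 416, 518, 364, 570, 425,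
  266, 350]
/-- squares -/
def P2 : List ℕ := [0, 0, 0, 3, 4, 1, 2, 2, 8, 3, 10, 11, 12, 7, 8, 9, 10, 12, 18, 19, 20, 16]

/-- `x` belongs to the family `i` -/
structure Row (x : Cfsg.Spor.He) (i : ℕ) : Prop where
  lt : i < 22
  n0 : Nn c0P x = T0.getD i 0
  n1 : Nn c1P x = T1.getD i 0
  n2 : Nn c2P x = T2.getD i 0
  sq : Nn c1P (x ^ 2) = T1.getD (P2.getD i 0) 0

/-- the weight of a colour, all in one number -/
def wt (c : ℕ) : ℕ := Nat.land (Nat.shiftRight 4611686018477719552 (Nat.mul 25 c)) 33554431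

theorem beq_false {a b : ℕ} (h : a ≠ b) : Nat.beq a b = false := by
  cases h1 : Nat.beq a b
  · rfl
  · exact absurd (Nat.eq_of_beq_eq_true h1) h

theorem wt_eq (c : ℕ) : wt c = (bif Nat.beq c 1 then 1 else 0) + 4096 * (bif Nat.beq c 2 then 1 else 0) +
    16777216 * (bif Nat.beq c 0 then 1 else 0) := by
  by_cases h : c < 3
  · interval_cases c <;> decide
  · obtain ⟨k, rfl⟩ := Nat.exists_eq_add_of_le (not_lt.1 h)
    have e1 : Nat.beq (3 + k) 1 = false := beq_false (by omega)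
    have e2 : Nat.beq (3 + k) 2 = false := beq_false (by omega)
    have e3 : Nat.beq (3 + k) 0 = false := beq_false (by omega)
    have e4 : wt (3 + k) = (4611686018477719552 >>> (25 * (3 + k))) &&& 33554431 := rfl
    rw [e1, e2, e3, e4, Nat.shiftRight_eq_div_pow, Nat.div_eq_of_lt, Nat.zero_and]
    · rfl
    · calc 4611686018477719552 < 2 ^ 75 := by norm_num
        _ ≤ 2 ^ (25 * (3 + k)) := Nat.pow_le_pow_right (by norm_num) (by omega)

/-- the tally of a word, all in one number -/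
def tal (w : List Gen) (n : ℕ) : ℕ := Nat.rec 0 (fun k ih => Nat.add (wt (colr k (act w k))) ih) n

theorem tal_eq (w : List Gen) (n : ℕ) : tal w n = cnt n (fun y => c1P y (act w y)) +
    4096 * cnt n (fun y => c2P y (act w y)) + 16777216 * cnt n (fun y => c0P y (act w y)) := by
  induction n with
  | zero => rfl
  | succ k ih =>
    have h1 : tal w (k + 1) = wt (colr k (act w k)) + tal w k := rfl
    have h2 : ∀ P : ℕ → Bool, cnt (k + 1) P = bif P k then Nat.succ (cnt k P) else cnt k P := fun P => rfl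
    rw [h1, ih, wt_eq, h2, h2, h2]
    have e1 : c1P k (act w k) = Nat.beq (colr k (act w k)) 1 := rfl
    have e2 : c2P k (act w k) = Nat.beq (colr k (act w k)) 2 := rfl
    have e0 : c0P k (act w k) = Nat.beq (colr k (act w k)) 0 := rfl
    rw [← e1, ← e2, ← e0]
    cases c1P k (act w k) <;> cases c2P k (act w k) <;> cases c0P k (act w k) <;> simp <;> ring

theorem cnt_le (n : ℕ) (P : ℕ → Bool) : cnt n P ≤ n := by
  induction n with
  | zero => exact le_rfl
  | succ k ih =>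
    have h2 : cnt (k + 1) P = bif P k then Nat.succ (cnt k P) else cnt k P := rfl
    rw [h2]
    cases P k
    · exact ih.trans (Nat.le_succ k)
    · exact Nat.succ_le_succ ih

def tg (i : ℕ) : ℕ := T1.getD i 0 + 4096 * T2.getD i 0 + 16777216 * T0.getD i 0

/-- the colours of a word -/
def chk3 (w : List Gen) (i : ℕ) : Bool := Nat.blt i 22 && Nat.beq (tal w 2058) (tg i)

theorem t_bound : ∀ i < 22, T1.getD i 0 < 4096 ∧ T2.getD i 0 < 4096 := by decide

theorem n_of_chk3 {w : List Gen} {i : ℕ} (h : chk3 w i = true) :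
    i < 22 ∧ Nn c0P (wd w) = T0.getD i 0 ∧ Nn c1P (wd w) = T1.getD i 0 ∧ Nn c2P (wd w) = T2.getD i 0 := by
  rw [chk3, Bool.and_eq_true] at h
  obtain ⟨h1, h2⟩ := h
  have h1' : i < 22 := Nat.le_of_ble_eq_true h1
  have h3 := Nat.eq_of_beq_eq_true h2
  rw [tal_eq, tg] at h3
  obtain ⟨b1, b2⟩ := t_bound i h1'
  have b3 := cnt_le 2058 (fun y => c1P y (act w y))
  have b4 := cnt_le 2058 (fun y => c2P y (act w y))
  rw [Nn_wd, Nn_wd, Nn_wd]
  omega

def chkRow (w : List Gen) (i : ℕ) : Bool :=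
  chk3 w i && Nat.beq (cnt 2058 fun y => c1P y (act (pw w 2) y)) (T1.getD (P2.getD i 0) 0)

theorem row_of_chk {w : List Gen} {i : ℕ} (h : chkRow w i = true) : Row (wd w) i := by
  rw [chkRow, Bool.and_eq_true] at h
  obtain ⟨h1, h2⟩ := h
  obtain ⟨h3, h4, h5, h6⟩ := n_of_chk3 h1
  refine ⟨h3, h4, h5, h6, ?_⟩
  rw [← wd_pw, Nn_wd]
  exact Nat.eq_of_beq_eq_true h2

theorem Row.inv {x : Cfsg.Spor.He} {i : ℕ} (h : Row x i) : Row x⁻¹ i := by
  refine ⟨h.lt, ?_, ?_, ?_, ?_⟩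
  · rw [Nn_inv (symm_of c0P_inv sym0), h.n0]
  · rw [Nn_inv (symm_of c1P_inv sym1), h.n1]
  · rw [Nn_inv (symm_of c2P_inv sym2), h.n2]
  · rw [inv_pow, Nn_inv (symm_of c1P_inv sym1), h.sq]

theorem Row.conj {x y : Cfsg.Spor.He} {i : ℕ} (h : Row x i) (hxy : IsConj x y) : Row y i := by
  refine ⟨h.lt, ?_, ?_, ?_, ?_⟩
  · rw [← Nn_conj c0P_inv hxy, h.n0]
  · rw [← Nn_conj c1P_inv hxy, h.n1]
  · rw [← Nn_conj c2P_inv hxy, h.n2]
  · rw [← Nn_conj c1P_inv (hxy.pow 2), h.sq]

end Cfsg.Agent.H825.SB.He
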