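import Cfsg.Agent.H825.SB.HeTabA

/-!
# Families of the elements of order 17 of the Held group (helper825)
-/

set_option autoImplicit false
set_option maxRecDepth 100000

namespace Cfsg.Agent.H825.SB.He

open Cfsg Cfsg.Spor Subgroup
open Cfsg.Spor.He (Gen)
open Cfsg.Agent.SporadicB.HePerm
open Cfsg.Agent.FixBN.HeStab Cfsg.Agent.KFacts.He.Lv Cfsg.Agent.CpAutHe.Cnt
open Cfsg.Agent.H235.Ore.HeCert Cfsg.Agent.H235.Ore.He
open Cfsg.Agent.H713.Two.HeClasses (Nn Nn_conj Nn_wd)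
open Cfsg.Agent.H153.Zeros.He17 (W17 o17)
open Cfsg.Agent.H19.Odd.HeCnt (XB XC)

theorem w17_1 : chk3 (pw W17 1) 19 = true := by decide +kernel
theorem w17_2 : chk3 (pw W17 2) 19 = true := by decide +kernel
theorem w17_3 : chk3 (pw W17 3) 19 = true := by decide +kernel
theorem w17_4 : chk3 (pw W17 4) 19 = true := by decide +kernel
theorem w17_5 : chk3 (pw W17 5) 19 = true := by decide +kernel
theorem w17_6 : chk3 (pw W17 6) 19 = true := by decide +kernel
theorem w17_7 : chk3 (pw W17 7) 19 = true := by decide +kernel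
theorem w17_8 : chk3 (pw W17 8) 19 = true := by decide +kernel
theorem row17_aux {m : ℕ} (h1 : 1 ≤ m) (h2 : m ≤ 8) : chk3 (pw W17 m) 19 = true := by
  interval_cases m
  exacts [w17_1, w17_2, w17_3, w17_4, w17_5, w17_6, w17_7, w17_8]

theorem n17 {n : ℕ} (h1 : 1 ≤ n) (h2 : n < 17) :
    Nn c0P (wd W17 ^ n) = 1 ∧ Nn c1P (wd W17 ^ n) = 1360 ∧ Nn c2P (wd W17 ^ n) = 425 := by
  by_cases h : n ≤ 8
  · have h3 := (n_of_chk3 (row17_aux h1 h)).2
    rwa [wd_pw] at h3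
  · have h3 := (n_of_chk3 (row17_aux (m := 17 - n) (by omega) (by omega))).2
    rw [wd_pw] at h3
    have e : wd W17 ^ n = (wd W17 ^ (17 - n))⁻¹ := by
      rw [eq_inv_iff_mul_eq_one, ← pow_add, show n + (17 - n) = 17 by omega, ← o17, pow_orderOf_eq_one]
    rw [e, Nn_inv (symm_of c0P_inv sym0), Nn_inv (symm_of c1P_inv sym1), Nn_inv (symm_of c2P_inv sym2)]
    exact h3

theorem row17 {a : Cfsg.Spor.He} (ha : a ∈ zpowers (wd W17)) (h1 : a ≠ 1) : Row a 19 := by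
  classical
  obtain ⟨hfin, -⟩ := Cfsg.Agent.SporadicB.HeUpper.card_he_le
  rw [mem_zpowers_iff_mem_range_orderOf, o17, Finset.mem_image] at ha
  obtain ⟨n, hn, rfl⟩ := ha
  rw [Finset.mem_range] at hn
  have h0 : n ≠ 0 := by
    rintro rfl
    exact h1 (pow_zero _)
  obtain ⟨e0, e1, e2⟩ := n17 (by omega) hn
  refine ⟨by norm_num, e0, e1, e2, ?_⟩
  have e3 : (wd W17 ^ n) ^ 2 = wd W17 ^ (2 * n % 17) := by
    rw [← pow_mul, mul_comm n 2]
    conv_rhs => rw [← o17]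
    rw [pow_mod_orderOf]
  rw [e3]
  exact (n17 (by omega) (by omega)).2.1

end Cfsg.Agent.H825.SB.He
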